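import Groth.Agent.H20LB.Total
import Groth.Agent.H20SS.Sections
import Groth.Agent.H20GQ.Univ
import Mathlib.AlgebraicGeometry.Morphisms.Flat

/-!
The linearised line bundle pulled back along an invariant morphism.
-/

set_option autoImplicit false
set_option linter.style.haveILetI false
set_option backward.isDefEq.respectTransparency false

noncomputable section

universe u

open CategoryTheory CategoryTheory.Limits MonoidalCategory CartesianMonoidalCategory MonObj AlgebraicGeometry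
  Opposite TopologicalSpace
open Groth.Agent.H11Tilde Groth.Agent.H11Ample

namespace Groth.Agent.H20LB

/-- Polynomial coordinates base change along pushouts. -/
theorem bijective_eval_of_isPushout {A B P Q : CommRingCat.{u}} {f : A ⟶ B} {g : A ⟶ P} {i : B ⟶ Q} {j : P ⟶ Q}
    (h : IsPushout f g i j) (t : P) (ht : Function.Bijective (Polynomial.eval₂RingHom g.hom t)) :
    Function.Bijective (Polynomial.eval₂RingHom i.hom (j t)) := by
  let e := RingEquiv.ofBijective _ ht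
  have hC : ∀ a, e.symm (g a) = Polynomial.C a := fun a =>
    e.injective (by rw [e.apply_symm_apply]; exact (Polynomial.eval₂_C _ _).symm)
  have hX : e.symm t = Polynomial.X := e.injective (by rw [e.apply_symm_apply]; exact (Polynomial.eval₂_X _ _).symm)
  let dP : P ⟶ CommRingCat.of (Polynomial B) :=
    CommRingCat.ofHom ((Polynomial.mapRingHom f.hom).comp e.symm.toRingHom)
  let d := h.desc (CommRingCat.ofHom (Polynomial.C : B →+* Polynomial B)) dP (by
    refine CommRingCat.hom_ext (RingHom.ext fun a => ?_)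
    show Polynomial.C (f a) = Polynomial.map f.hom (e.symm (g a))
    rw [hC, Polynomial.map_C])
  let ev : CommRingCat.of (Polynomial B) ⟶ Q := CommRingCat.ofHom (Polynomial.eval₂RingHom i.hom (j t))
  have hi : ∀ b, d (i b) = Polynomial.C b := fun b => ConcreteCategory.congr_hom (h.inl_desc _ dP _) b
  have hj : ∀ p, d (j p) = dP p := fun p => ConcreteCategory.congr_hom (h.inr_desc _ dP _) p
  have h1 : ev ≫ d = 𝟙 _ := by
    refine CommRingCat.hom_ext (Polynomial.ringHom_ext (fun b => ?_) ?_)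
    · show d (Polynomial.eval₂ i.hom (j t) (Polynomial.C b)) = Polynomial.C b
      rw [Polynomial.eval₂_C]
      exact hi b
    · show d (Polynomial.eval₂ i.hom (j t) Polynomial.X) = Polynomial.X
      rw [Polynomial.eval₂_X, hj]
      show Polynomial.map f.hom (e.symm t) = Polynomial.X
      rw [hX, Polynomial.map_X]
  have h2 : d ≫ ev = 𝟙 Q := by
    refine h.hom_ext ?_ ?_
    · ext b
      show Polynomial.eval₂ i.hom (j t) (d (i b)) = i b
      rw [hi, Polynomial.eval₂_C]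
    · ext p
      show Polynomial.eval₂ i.hom (j t) (d (j p)) = j p
      rw [hj]
      show Polynomial.eval₂ i.hom (j t) (Polynomial.map f.hom (e.symm p)) = j p
      conv_rhs => rw [← e.apply_symm_apply p]
      show _ = j.hom (Polynomial.eval₂ g.hom t (e.symm p))
      rw [Polynomial.eval₂_map, Polynomial.hom_eval₂]
      congr 1
      exact congrArg CommRingCat.Hom.hom h.w
  exact Function.bijective_iff_has_inverse.2
    ⟨d, fun F => ConcreteCategory.congr_hom h1 F, fun z => ConcreteCategory.congr_hom h2 z⟩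

variable {S : Scheme.{u}} {G X Y : Over S} [GrpObj G] {a : AlgGrp.Action G X} {φ : X ⟶ Y}

theorem exists_linBun (hφ : GIT.IsInvariant a φ) (M : Y.left.Modules) (hM : PicF.IsInvertible M) :
    ∃ B : GLinSh.LinBun G a, ∀ (n : ℕ) (σ : Γ(CohB1.tensorPow M n, ⊤)), ∃ f : Γ(B.V.left, ⊤),
      B.IsInvSection n f ∧ GLinSh.nonvanishing B.π f = φ.left ⁻¹' (gen (CohB1.tensorPow M n) σ : Set Y.left) := by
  obtain ⟨D⟩ := exists_tot M hM
  haveI := D.aff
  let Wo : Over S := Over.mk (D.π ≫ Y.hom)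
  let πo : Wo ⟶ Y := Over.homMk D.π rfl
  let V : Over S := Over.mk (pullback.fst φ.left D.π ≫ X.hom)
  let p : V ⟶ X := Over.homMk (pullback.fst φ.left D.π) rfl
  let q : V ⟶ Wo := Over.homMk (pullback.snd φ.left D.π) (by
    change pullback.snd φ.left D.π ≫ D.π ≫ Y.hom = pullback.fst φ.left D.π ≫ X.hom
    rw [← pullback.condition_assoc, Over.w])
  let qs : V.left ⟶ D.W := q.left
  have H : IsPullback p.left qs φ.left D.π := IsPullback.of_hasPullback φ.left D.π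
  obtain ⟨Φ, hΦp, hΦq⟩ := H20GQ.exists_action hφ (H20GQ.isPullback_of_left (f := p) (g := q) (k := πo) H)
  have hle : ∀ {U : X.left.Opens} {T : Y.left.Opens}, U ≤ φ.left ⁻¹ᵁ T →
      p.left ⁻¹ᵁ U ≤ qs ⁻¹ᵁ (D.π ⁻¹ᵁ T) := fun {U T} h => by
    rw [← Scheme.Hom.comp_preimage, ← H.w, Scheme.Hom.comp_preimage]
    exact p.left.preimage_mono h
  have pull_app : ∀ {U : X.left.Opens} {T : Y.left.Opens} (h : U ≤ φ.left ⁻¹ᵁ T) (c : Γ(Y.left, T)),
      qs.appLE (D.π ⁻¹ᵁ T) (p.left ⁻¹ᵁ U) (hle h) (D.π.app T c) = p.left.app U (φ.left.appLE T U h c) := by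
    intro U T h c
    change (D.π.app T ≫ qs.appLE _ _ _) c = (φ.left.appLE T U h ≫ p.left.app U) c
    rw [Scheme.Hom.app_eq_appLE, Scheme.Hom.app_eq_appLE, Scheme.Hom.appLE_comp_appLE,
      Scheme.Hom.appLE_comp_appLE]
    exact H20SS.appLE_congr_hom H.w.symm _ _
  let chart : ∀ U : X.left.Opens, Set (Γ(V.left, p.left ⁻¹ᵁ U)) := fun U =>
    {y | ∃ (T : Y.left.Opens) (e : Γ(M, T)) (_ : IsAffineOpen T) (_ : IsGen M e) (h : U ≤ φ.left ⁻¹ᵁ T),
      y = qs.appLE (D.π ⁻¹ᵁ T) (p.left ⁻¹ᵁ U) (hle h) (D.t T e)}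
  have hres : ∀ {U : X.left.Opens} {T O : Y.left.Opens} (h : U ≤ φ.left ⁻¹ᵁ T) (hO : U ≤ φ.left ⁻¹ᵁ O) (hOT : O ≤ T)
      (e : Γ(M, T)), qs.appLE (D.π ⁻¹ᵁ T) (p.left ⁻¹ᵁ U) (hle h) (D.t T e) =
        qs.appLE (D.π ⁻¹ᵁ O) (p.left ⁻¹ᵁ U) (hle hO) (D.t O (M.presheaf.map (homOfLE hOT).op e)) := by
    intro U T O h hO hOT e
    rw [← D.t_res hOT e, ← ConcreteCategory.comp_apply, Scheme.Hom.map_appLE]
  have hrespull : ∀ {U U' : X.left.Opens} {T : Y.left.Opens} (h : U ≤ φ.left ⁻¹ᵁ T) (hU : U' ≤ U) (e : Γ(M, T)),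
      GLinSh.res p hU (qs.appLE (D.π ⁻¹ᵁ T) (p.left ⁻¹ᵁ U) (hle h) (D.t T e)) =
        qs.appLE (D.π ⁻¹ᵁ T) (p.left ⁻¹ᵁ U') (hle (hU.trans h)) (D.t T e) := by
    intro U U' T h hU e
    rw [GLinSh.res, ← ConcreteCategory.comp_apply, Scheme.Hom.appLE_map]
  have hcov : ∀ x : X.left, ∃ (T : Y.left.Opens) (e : Γ(M, T)), IsAffineOpen T ∧ IsGen M e ∧ φ.left x ∈ T := by
    intro x
    obtain ⟨T₀, e, hx, he⟩ := exists_gen hM (φ.left x)
    obtain ⟨_, ⟨T, hT, rfl⟩, hxT, hle'⟩ := Y.left.isBasis_affineOpens.exists_subset_of_mem_open hx T₀.2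
    exact ⟨T, M.presheaf.map (homOfLE hle').op e, hT, he.res hle', hxT⟩
  have htrans : ∀ {T T' : Y.left.Opens} (e : Γ(M, T)) (e' : Γ(M, T')), IsGen M e → IsGen M e' →
      ∃ c : Γ(Y.left, T ⊓ T'), IsUnit c ∧
        M.presheaf.map (homOfLE inf_le_right).op e' = c • M.presheaf.map (homOfLE inf_le_left).op e := by
    intro T T' e e' he he'
    obtain ⟨c, hc⟩ := exists_coeff (he.res (inf_le_left : T ⊓ T' ≤ T)) (M.presheaf.map (homOfLE inf_le_right).op e')
    obtain ⟨d, hd⟩ := exists_coeff (he'.res (inf_le_right : T ⊓ T' ≤ T')) (M.presheaf.map (homOfLE inf_le_left).op e)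
    refine ⟨c, IsUnit.of_mul_eq_one d ?_, hc⟩
    have h2 := hd
    rw [hc, smul_smul] at h2
    have := ((he.res (inf_le_left : T ⊓ T' ≤ T)).bijective le_rfl).1 (a₁ := c * d) (a₂ := 1)
      (by beta_reduce; rw [H10Coh.mres_self, one_smul, _root_.mul_comm]; exact h2.symm)
    exact this
  let A : GLinSh.LinAtlas p :=
    { affine := MorphismProperty.pullback_fst φ.left D.π D.aff
      chart := chart
      cover := fun x => by
        obtain ⟨T, e, hT, he, hx⟩ := hcov x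
        exact ⟨φ.left ⁻¹ᵁ T, hx, _, T, e, hT, he, le_rfl, rfl⟩
      coord := by
        rintro U y ⟨T, e, hT, he, h, rfl⟩ W hW hWU
        rw [hrespull h hWU e, Scheme.Hom.app_eq_appLE]
        have hUY : p.left ⁻¹ᵁ W = p.left ⁻¹ᵁ W ⊓ qs ⁻¹ᵁ (D.π ⁻¹ᵁ T) := (inf_eq_left.2 (hle (hWU.trans h))).symm
        haveI := isIso_pushoutSection_of_isAffineOpen H le_rfl (hWU.trans h) hUY hT (hT.preimage D.π) hW
        refine bijective_eval_of_isPushout ((isIso_pushoutSection_iff H le_rfl (hWU.trans h) hUY).1 this) (D.t T e) ?_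
        rw [← Scheme.Hom.app_eq_appLE]
        exact D.bij hT he
      linear := by
        rintro U U' y y' ⟨T, e, hT, he, h, rfl⟩ ⟨T', e', hT', he', h', rfl⟩
        obtain ⟨c, hc, hce⟩ := htrans e e' he he'
        have hO : U ⊓ U' ≤ φ.left ⁻¹ᵁ (T ⊓ T') := le_inf (inf_le_left.trans h) (inf_le_right.trans h')
        refine ⟨φ.left.appLE (T ⊓ T') (U ⊓ U') hO c, hc.map _, ?_⟩
        rw [hrespull h' inf_le_right, hrespull h inf_le_left, hres (inf_le_right.trans h') hO inf_le_right e',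
          hres (inf_le_left.trans h) hO inf_le_left e, hce, D.t_smul, map_mul, pull_app hO c] }
  have hlin : GLinSh.IsLinearLift a p Φ A.chart hΦp := by
    rintro U U' y y' ⟨T, e, hT, he, h, rfl⟩ ⟨T', e', hT', he', h', rfl⟩
    obtain ⟨c, -, hce⟩ := htrans e e' he he'
    have hφl := hφ.left
    have hO : a.act.left ⁻¹ᵁ U' ⊓ (snd G X).left ⁻¹ᵁ U ≤ ((snd G X).left ≫ φ.left) ⁻¹ᵁ (T ⊓ T') := by
      rintro z ⟨hz', hz⟩
      refine ⟨h hz, ?_⟩
      have : φ.left (a.act.left z) = φ.left ((snd G X).left z) := by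
        rw [← Scheme.Hom.comp_apply, hφl, Scheme.Hom.comp_apply]
      exact (congrArg (· ∈ T') this).mp (h' hz')
    refine ⟨((snd G X).left ≫ φ.left).appLE (T ⊓ T') _ hO c, ?_⟩
    have hw : (G ◁ p).left ≫ (snd G X).left ≫ φ.left = (snd G V).left ≫ qs ≫ D.π := by
      rw [← H.w, ← Over.comp_left_assoc, whiskerLeft_snd, Over.comp_left_assoc]
    have hL : GLinSh.liftOpen a p U U' ≤ ((snd G V).left ≫ qs) ⁻¹ᵁ (D.π ⁻¹ᵁ (T ⊓ T')) := by
      rw [← Scheme.Hom.comp_preimage, Category.assoc, ← hw, Scheme.Hom.comp_preimage]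
      exact le_trans (GLinSh.liftOpen_le_base a p) ((G ◁ p).left.preimage_mono hO)
    have hq : Φ.act.left ≫ qs = (snd G V).left ≫ qs := congrArg (fun m : G ⊗ V ⟶ Wo => m.left) hΦq
    rw [← ConcreteCategory.comp_apply, ← ConcreteCategory.comp_apply, ← ConcreteCategory.comp_apply,
      Scheme.Hom.appLE_comp_appLE, Scheme.Hom.appLE_comp_appLE, Scheme.Hom.appLE_comp_appLE,
      H20SS.appLE_congr_hom hq]
    have e1 : ∀ {T₁ O₁ : Y.left.Opens} (e₁ : Γ(M, T₁)) (hOT : O₁ ≤ T₁)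
        (h₁ : GLinSh.liftOpen a p U U' ≤ ((snd G V).left ≫ qs) ⁻¹ᵁ (D.π ⁻¹ᵁ T₁))
        (h₂ : GLinSh.liftOpen a p U U' ≤ ((snd G V).left ≫ qs) ⁻¹ᵁ (D.π ⁻¹ᵁ O₁)),
        ((snd G V).left ≫ qs).appLE (D.π ⁻¹ᵁ T₁) (GLinSh.liftOpen a p U U') h₁ (D.t T₁ e₁) =
          ((snd G V).left ≫ qs).appLE (D.π ⁻¹ᵁ O₁) (GLinSh.liftOpen a p U U') h₂
            (D.t O₁ (M.presheaf.map (homOfLE hOT).op e₁)) := by
      intro T₁ O₁ e₁ hOT h₁ h₂
      rw [← D.t_res hOT e₁, ← ConcreteCategory.comp_apply, Scheme.Hom.map_appLE]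
    rw [e1 e' inf_le_right _ hL, e1 e inf_le_left _ hL, hce, D.t_smul, map_mul]
    congr 1
    rw [← ConcreteCategory.comp_apply, Scheme.Hom.app_eq_appLE, Scheme.Hom.appLE_comp_appLE]
    exact H20SS.appLE_congr_hom (by rw [hw, Category.assoc]) _ _
  refine ⟨⟨V, p, A, Φ, hΦp, hlin⟩, fun n σ => ?_⟩
  obtain ⟨f, hf⟩ := D.exists_fn hM σ
  have hcoef : ∀ {U : X.left.Opens} {T : Y.left.Opens} (e : Γ(M, T)) (c : Γ(Y.left, T)) (h : U ≤ φ.left ⁻¹ᵁ T),
      IsGen M e → (CohB1.tensorPow M n).presheaf.map (homOfLE le_top).op σ = c • spow e n →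
      GLinSh.resTop p U (qs.appTop f) = p.left.app U (φ.left.appLE T U h c) *
        qs.appLE (D.π ⁻¹ᵁ T) (p.left ⁻¹ᵁ U) (hle h) (D.t T e) ^ n := by
    intro U T e c h he hc
    have h1 := congrArg (qs.appLE (D.π ⁻¹ᵁ T) (p.left ⁻¹ᵁ U) (hle h)) (hf T e c he hc)
    rw [map_mul, map_pow, pull_app h c, ← ConcreteCategory.comp_apply, Scheme.Hom.map_appLE] at h1
    rw [← h1, GLinSh.resTop, ← ConcreteCategory.comp_apply]
    rfl
  refine ⟨qs.appTop f, ⟨?_, ?_⟩, ?_⟩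
  · rintro U y ⟨T, e, hT, he, h, rfl⟩
    obtain ⟨c, hc⟩ := exists_coeff (isGen_spow he n) ((CohB1.tensorPow M n).presheaf.map (homOfLE le_top).op σ)
    exact ⟨_, hcoef e c h he hc⟩
  · show Φ.act.left.appTop (qs.appTop f) = (snd G V).left.appTop (qs.appTop f)
    rw [← ConcreteCategory.comp_apply, ← ConcreteCategory.comp_apply, ← Scheme.Hom.comp_appTop,
      ← Scheme.Hom.comp_appTop, ← Over.comp_left, ← Over.comp_left, hΦq]
  · ext x
    obtain ⟨T, e, hT, he, hx⟩ := hcov x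
    obtain ⟨c, hc⟩ := exists_coeff (isGen_spow he n) ((CohB1.tensorPow M n).presheaf.map (homOfLE le_top).op σ)
    have hy : qs.appLE (D.π ⁻¹ᵁ T) (p.left ⁻¹ᵁ (φ.left ⁻¹ᵁ T)) (hle le_rfl) (D.t T e) ∈ A.chart (φ.left ⁻¹ᵁ T) :=
      ⟨T, e, hT, he, le_rfl, rfl⟩
    have h1 := H20SS.nonvanishing_inter hy (hcoef e c le_rfl he hc)
    rw [← Scheme.Hom.app_eq_appLE, ← Scheme.preimage_basicOpen, ← gen_inf_eq_basicOpen (isGen_spow he n) σ c hc] at h1
    exact ⟨fun hx' => (h1.le ⟨hx', hx⟩).1, fun hx' => (h1.ge ⟨hx', hx⟩).1⟩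

end Groth.Agent.H20LB
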