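import Groth.Agent.H11Cone.LineBundle
import Groth.Agent.H28Mero.Gen

/-!
Total space of an invertible module with its coordinates; sections of tensor powers as homogeneous functions.
-/

set_option autoImplicit false
set_option linter.style.haveILetI false
set_option backward.isDefEq.respectTransparency false

noncomputable section

universe u

open CategoryTheory CategoryTheory.Limits AlgebraicGeometry Opposite TopologicalSpace
open Groth.Agent.H11Sym Groth.Agent.H11Aff Groth.Agent.H11Tilde Groth.Agent.H11Ample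

namespace Groth.Agent.H20LB

variable {Y : Scheme.{u}}

/-- A total space of an invertible module: coordinates attached to local sections. -/
structure Tot (M : Y.Modules) where
  W : Scheme.{u}
  π : W ⟶ Y
  aff : IsAffineHom π
  t : ∀ T : Y.Opens, Γ(M, T) → Γ(W, π ⁻¹ᵁ T)
  t_res : ∀ {T T' : Y.Opens} (h : T' ≤ T) (e : Γ(M, T)),
    W.presheaf.map (homOfLE (π.preimage_mono h)).op (t T e) = t T' (M.presheaf.map (homOfLE h).op e)
  t_smul : ∀ (T : Y.Opens) (c : Γ(Y, T)) (e : Γ(M, T)), t T (c • e) = π.app T c * t T e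
  bij : ∀ {T : Y.Opens}, IsAffineOpen T → ∀ {e : Γ(M, T)}, IsGen M e →
    Function.Bijective (Polynomial.eval₂RingHom (π.app T).hom (t T e))

theorem exists_tot (M : Y.Modules) (hM : PicF.IsInvertible M) : Nonempty (Tot M) := by
  obtain ⟨A, j, hj⟩ := exists_affSym M (H28Mero.isQCoh_of_isInvertible hM)
  let t : ∀ T : Y.Opens, Γ(M, T) → Γ(A.spec, A.π ⁻¹ᵁ T) := fun T e =>
    (RelSpecUniv.univMap A).app (op T) (japp j T e)
  refine ⟨⟨A.spec, A.π, inferInstance, t, fun {T T'} h e => ?_, fun T c e => ?_, fun {T} hT {e} he => ?_⟩⟩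
  · simp only [t]
    rw [japp_res]
    exact (ConcreteCategory.congr_hom ((RelSpecUniv.univMap A).naturality (homOfLE h).op) (japp j T e)).symm
  · simp only [t]
    rw [japp_smul, map_mul]
    exact congrArg (· * _) (ConcreteCategory.congr_hom (NatTrans.congr_app (RelSpecUniv.str_univMap A) (op T)) c)
  letI := algOn A T
  have hS := hj T hT
  have hbij : Function.Bijective fun r : Γ(Y, T) => r • e := by
    have h1 := he.bijective (le_refl T)
    simpa only [H10Coh.mres_self] using h1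
  let coef : Γ(M, T) ≃ₗ[Γ(Y, T)] Γ(Y, T) :=
    (LinearEquiv.ofBijective (LinearMap.toSpanSingleton Γ(Y, T) Γ(M, T) e) hbij).symm
  let φ : A.presheaf.obj (op T) →ₐ[Γ(Y, T)] Polynomial Γ(Y, T) :=
    hS.lift ((Polynomial.monomial 1).comp coef.toLinearMap)
  let ψ : Polynomial Γ(Y, T) →ₐ[Γ(Y, T)] A.presheaf.obj (op T) := Polynomial.aeval (japp j T e)
  have hφ : ∀ m, φ (japp j T m) = Polynomial.monomial 1 (coef m) := fun m =>
    IsSymmetricAlgebra.lift_eq hS _ m
  have hcoef : coef e = 1 := by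
    rw [LinearEquiv.symm_apply_eq]
    exact (one_smul _ _).symm
  have h1 : ψ.comp φ = AlgHom.id _ _ := by
    refine hS.algHom_ext (LinearMap.ext fun m => ?_)
    change ψ (φ (japp j T m)) = japp j T m
    rw [hφ, show ψ = Polynomial.aeval (japp j T e) from rfl, Polynomial.aeval_monomial, pow_one]
    have hm : coef m • e = m := coef.symm_apply_apply m
    conv_rhs => rw [← hm, japp_smul]
    rfl
  have h2 : φ.comp ψ = AlgHom.id _ _ := by
    refine Polynomial.algHom_ext ?_
    rw [AlgHom.comp_apply, show ψ Polynomial.X = japp j T e from Polynomial.aeval_X _, hφ, hcoef,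
      Polynomial.monomial_one_one_eq_X]
    rfl
  have hψ : Function.Bijective ψ :=
    Function.bijective_iff_has_inverse.2
      ⟨φ, fun F => AlgHom.congr_fun h2 F, fun a => AlgHom.congr_fun h1 a⟩
  haveI : IsIso ((RelSpecUniv.univMap A).app (op T)) := by
    haveI := RelSpecUniv.gammaMap_isIso A
    rw [RelSpecUniv.univMap]
    infer_instance
  have hcomp : (Polynomial.eval₂RingHom (A.π.app T).hom (t T e) : Polynomial Γ(Y, T) → _) =
      (RelSpecUniv.univMap A).app (op T) ∘ ψ := by
    suffices h : Polynomial.eval₂RingHom (A.π.app T).hom (t T e) =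
        ((RelSpecUniv.univMap A).app (op T)).hom.comp ψ.toRingHom from congrArg DFunLike.coe h
    refine Polynomial.ringHom_ext (fun c => ?_) ?_
    · rw [Polynomial.coe_eval₂RingHom, Polynomial.eval₂_C]
      erw [RingHom.comp_apply, Polynomial.aeval_C]
      exact (ConcreteCategory.congr_hom (NatTrans.congr_app (RelSpecUniv.str_univMap A) (op T)) c).symm
    · rw [Polynomial.coe_eval₂RingHom, Polynomial.eval₂_X]
      erw [RingHom.comp_apply, Polynomial.aeval_X]
  rw [hcomp]
  exact (ConcreteCategory.bijective_of_isIso ((RelSpecUniv.univMap A).app (op T))).comp hψ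

variable {M : Y.Modules} (D : Tot M)

theorem Tot.app_res {T T' : Y.Opens} (h : T' ≤ T) (c : Γ(Y, T)) :
    D.W.presheaf.map (homOfLE (D.π.preimage_mono h)).op (D.π.app T c) =
      D.π.app T' (Y.presheaf.map (homOfLE h).op c) :=
  (ConcreteCategory.congr_hom (D.π.naturality (homOfLE h).op) c).symm

/-- A section of a tensor power gives a homogeneous function on the total space. -/
theorem Tot.exists_fn (hM : PicF.IsInvertible M) {n : ℕ} (σ : Γ(CohB1.tensorPow M n, ⊤)) :
    ∃ f : Γ(D.W, ⊤), ∀ (T : Y.Opens) (e : Γ(M, T)) (c : Γ(Y, T)), IsGen M e →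
      (CohB1.tensorPow M n).presheaf.map (homOfLE le_top).op σ = c • spow e n →
      D.W.presheaf.map (homOfLE le_top).op f = D.π.app T c * D.t T e ^ n := by
  let J := {p : Σ T : Y.Opens, Γ(Y, T) × Γ(M, T) //
    IsGen M p.2.2 ∧ (CohB1.tensorPow M n).presheaf.map (homOfLE le_top).op σ = p.2.1 • spow p.2.2 n}
  let U : J → D.W.Opens := fun j => D.π ⁻¹ᵁ j.1.1
  let sf : ∀ j : J, Γ(D.W, U j) := fun j => D.π.app j.1.1 j.1.2.1 * D.t j.1.1 j.1.2.2 ^ n
  have hagree : ∀ i j : J, D.W.presheaf.map (Opens.infLELeft (U i) (U j)).op (sf i) =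
      D.W.presheaf.map (Opens.infLERight (U i) (U j)).op (sf j) := by
    rintro ⟨⟨T, c, e⟩, he, hc⟩ ⟨⟨T', c', e'⟩, he', hc'⟩
    show D.W.presheaf.map (homOfLE (D.π.preimage_mono (inf_le_left : T ⊓ T' ≤ T))).op (D.π.app T c * D.t T e ^ n) =
      D.W.presheaf.map (homOfLE (D.π.preimage_mono (inf_le_right : T ⊓ T' ≤ T'))).op (D.π.app T' c' * D.t T' e' ^ n)
    obtain ⟨a, ha⟩ := transition (ei := e) (Vi := T) he'
    have hc1 := congrArg ((CohB1.tensorPow M n).presheaf.map (homOfLE (inf_le_left : T ⊓ T' ≤ T)).op) hc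
    have hc2 := congrArg ((CohB1.tensorPow M n).presheaf.map (homOfLE (inf_le_right : T ⊓ T' ≤ T')).op) hc'
    rw [H10Coh.mres_mres, Scheme.Modules.map_smul, spow_res, ha, spow_smul, smul_smul] at hc1
    rw [H10Coh.mres_mres, Scheme.Modules.map_smul, spow_res, hc1] at hc2
    have hcc := ((isGen_spow (he'.res (inf_le_right : T ⊓ T' ≤ T')) n).bijective le_rfl).1
      (a₁ := Y.presheaf.map (homOfLE inf_le_left).op c * a ^ n)
      (a₂ := Y.presheaf.map (homOfLE inf_le_right).op c') (by beta_reduce; rw [H10Coh.mres_self]; exact hc2)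
    rw [map_mul, map_mul, map_pow, map_pow, D.t_res (inf_le_left : T ⊓ T' ≤ T), D.t_res (inf_le_right : T ⊓ T' ≤ T'), D.app_res (inf_le_left : T ⊓ T' ≤ T), D.app_res (inf_le_right : T ⊓ T' ≤ T'), ha, D.t_smul, mul_pow,
      ← _root_.mul_assoc, ← map_pow, ← map_mul, hcc]
  have hcov : ⊤ ≤ ⨆ j, U j := fun w _ => by
    obtain ⟨V, e, hw, he⟩ := exists_gen hM (D.π w)
    obtain ⟨c, hc⟩ := exists_coeff (isGen_spow he n) ((CohB1.tensorPow M n).presheaf.map (homOfLE le_top).op σ)
    exact Opens.mem_iSup.2 ⟨⟨⟨V, c, e⟩, he, hc⟩, hw⟩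
  obtain ⟨f, hf, -⟩ := D.W.sheaf.existsUnique_gluing' U ⊤ (fun _ => homOfLE le_top) hcov sf hagree
  exact ⟨f, fun T e c he hc => hf ⟨⟨T, c, e⟩, he, hc⟩⟩

end Groth.Agent.H20LB
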